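import Groth.Agent.L22.Reg.Mumford
import Groth.Agent.L03.Euler.Lead
import Groth.Agent.L22.Inter.Top
import Groth.Agent.L22.VeryAmple.Over

/-!
# Lower bounds for the hat slope of quotients of regular modules
-/

set_option autoImplicit false
set_option backward.isDefEq.respectTransparency false
set_option linter.style.haveILetI false
set_option linter.unusedSectionVars false

universe u

open CategoryTheory CategoryTheory.Limits AlgebraicGeometry TopologicalSpace

noncomputable section

namespace Groth.L11.Slope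

open Groth.L22.Reg Groth.L16
open Groth.L00.Tensor (tensorRightF tensorIso tensorUnitRight)
open Groth.L16.CohLinear (exact_hmap_delta)
open Groth.L03.Euler (topologicalKrullDim_set_mono)

/-- Backward difference. -/
def D1 (f : ℤ → ℤ) : ℤ → ℤ := fun j => f j - f (j - 1)

variable {k : Type u} [Field k] {n : ℕ}

theorem noetherian_proj : IsNoetherian (CohB1.ProjSpace n k) := by
  haveI := isProper_over_proj (k := k) (n := n)
  exact Groth.L21.RR.isNoetherian_of_proper (X := CohB1.ProjSpace n k) k

theorem subsingleton_above_dim {M : (CohB1.ProjSpace n k).Modules} (hM : Coh.IsCoh M) {d q : ℕ}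
    (hd : topologicalKrullDim (CohB1.support M) ≤ (d : WithBot ℕ∞)) (hq : d < q) (t : ℤ) :
    Subsingleton (Coh.HH (CohB1.ProjSpace n k) (tw' M t) q) := by
  haveI := isProper_over_proj (k := k) (n := n)
  have hi := ProjTwist.isInvertible_twistProjSpace n k t
  refine Groth.L22.Big.subsingleton_HH_of_support k (Groth.L03.Euler.isCoh_tensor hi hM) ?_ hq
  rw [Groth.L03.Euler.support_tensor hi]
  exact hd

theorem support_subset_of_epi {E F : (CohB1.ProjSpace n k).Modules} (q : E ⟶ F) [Epi q] :
    CohB1.support F ⊆ CohB1.support E := fun x hx hs => by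
  haveI : Subsingleton ((Groth.L21.Mod.stalkF _ x).obj E) := hs
  exact hx ((Groth.L21.Mod.epi_iff_stalk_surjective q).1 inferInstance x).subsingleton

/-- A hyperplane avoiding the top-dimensional points drops the dimension. -/
theorem dim_coker_le {F : (CohB1.ProjSpace n k).Modules} (hF : Coh.IsCoh F) {d : ℕ}
    (hd : topologicalKrullDim (CohB1.support F) ≤ ((d + 1 : ℕ) : WithBot ℕ∞)) (ℓ : Form n k)
    (hℓ : ∀ x ∈ CohB1.support F, topologicalKrullDim (closure ({x} : Set (CohB1.ProjSpace n k))) = ((d + 1 : ℕ) : WithBot ℕ∞) →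
      x ∈ Proj.basicOpen (CohB1.polyGrading n k) ℓ.1) :
    topologicalKrullDim (CohB1.support (cokernel (mu (sigmaF ℓ) F))) ≤ (d : WithBot ℕ∞) := by
  let T : Set (CohB1.ProjSpace n k) :=
    CohB1.support F ∩ ({x | x ∈ Proj.basicOpen (CohB1.polyGrading n k) ℓ.1} : Set (CohB1.ProjSpace n k))ᶜ
  have hTc : IsClosed T := (CohSupport.isClosed_support F hF.2).inter (Proj.basicOpen (CohB1.polyGrading n k) ℓ.1).isOpen.isClosed_compl
  have hsub : CohB1.support (cokernel (mu (sigmaF ℓ) F)) ⊆ T := by
    intro x hx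
    refine ⟨support_subset_of_epi (cokernel.π (mu (sigmaF ℓ) F)) hx, fun hb => hx (subsingleton_of_forall_eq 0 fun v => ?_)⟩
    obtain ⟨e, he⟩ := (Groth.L21.Mod.epi_iff_stalk_surjective (cokernel.π (mu (sigmaF ℓ) F))).1 inferInstance x v
    obtain ⟨a, rfl⟩ := (bijective_mu x (sigmaF ℓ) (bijective_sigmaF ℓ hb) F).2 e
    rw [← he]
    show sm x (cokernel.π (mu (sigmaF ℓ) F)) (sm x (mu (sigmaF ℓ) F) a) = 0
    rw [← sm_comp, cokernel.condition, sm_zero]
  refine (topologicalKrullDim_set_mono hsub).trans (le_of_not_gt fun hlt => ?_)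
  have h1 : ((d + 1 : ℕ) : WithBot ℕ∞) ≤ topologicalKrullDim T := by
    refine le_of_not_gt fun h2 => absurd (Groth.L22.Inter.add_one_le_of_lt h2) ?_
    intro h3
    have h4 : ((d : ℕ) : WithBot ℕ∞) + 1 < topologicalKrullDim T + 1 := by
      rcases eq_or_ne (topologicalKrullDim T) ⊥ with e | e
      · rw [e] at hlt; exact absurd hlt (by simp)
      obtain ⟨t, ht⟩ := WithBot.ne_bot_iff_exists.1 e
      rw [← ht] at hlt h3 ⊢
      rcases eq_or_ne t ⊤ with e' | e'
      · subst e'
        rw [show (((⊤ : ℕ∞) : WithBot ℕ∞) + 1) = ((⊤ : ℕ∞) : WithBot ℕ∞) from rfl]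
        exact_mod_cast WithBot.coe_lt_coe.2 (ENat.coe_lt_top (d + 1))
      obtain ⟨t', rfl⟩ := ENat.ne_top_iff_exists.1 e'
      have : d < t' := by exact_mod_cast hlt
      exact_mod_cast (show d + 1 < t' + 1 by omega)
    exact absurd (lt_of_lt_of_le h4 h3) (by norm_cast; omega)
  obtain ⟨y, hy, hyd⟩ := Groth.L03.Euler.exists_point_dim_closure_ge hTc h1
  have hle : topologicalKrullDim (closure ({y} : Set (CohB1.ProjSpace n k))) ≤ ((d + 1 : ℕ) : WithBot ℕ∞) :=
    (topologicalKrullDim_set_mono (closure_minimal (Set.singleton_subset_iff.2 hy.1)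
      (CohSupport.isClosed_support F hF.2))).trans hd
  exact hy.2 (hℓ y hy.1 (le_antisymm hle hyd))

/-- The top differences of a quotient of a regular module. -/
theorem diff_bounds [Infinite k] (ρ : ℤ) : ∀ (d : ℕ) (E F : (CohB1.ProjSpace n k).Modules) (q : E ⟶ F) [Epi q],
    Coh.IsCoh E → Coh.IsCoh F → Regular E ρ → topologicalKrullDim (CohB1.support E) ≤ ((d + 1 : ℕ) : WithBot ℕ∞) →
    0 ≤ (D1^[d] fun t => chiP F t) (ρ - 1) := by
  intro d
  induction d with
  | zero =>
    intro E F q _ hE hF hr hd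
    show 0 ≤ chiP F (ρ - 1)
    haveI := isProper_over_proj (k := k) (n := n)
    haveI := noetherian_proj (k := k) (n := n)
    haveI := hE.1
    haveI := hF.1
    have hK : Coh.IsCoh (kernel q) := (CohKernel.isCoh_kernel_cokernel hE hF q).1
    have hdF := (topologicalKrullDim_set_mono (support_subset_of_epi q)).trans hd
    have hdK : topologicalKrullDim (CohB1.support (kernel q)) ≤ ((0 + 1 : ℕ) : WithBot ℕ∞) :=
      (topologicalKrullDim_set_mono (show CohB1.support (kernel q) ⊆ CohB1.support E from fun x hx hs => hx (by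
        haveI : Subsingleton ((Groth.L21.Mod.stalkF _ x).obj E) := hs
        exact ((Groth.L21.Mod.mono_iff_stalk_injective (kernel.ι q)).1 inferInstance x).subsingleton))).trans hd
    have hS : (ShortComplex.mk (kernel.ι q) q (kernel.condition q)).ShortExact :=
      { exact := ShortComplex.exact_kernel q }
    have h1 : Subsingleton (Coh.HH _ (tw' F (ρ - 1)) 1) := by
      have hE1 : Subsingleton (Coh.HH _ (tw' E (ρ - 1)) 1) := by simpa using hr 1 le_rfl
      have hK2 : Subsingleton (Coh.HH _ (tw' (kernel q) (ρ - 1)) 2) := subsingleton_above_dim hK hdK (by omega) _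
      exact subsingleton_of_exact (exact_hmap_delta (shortExact_tw hS (ρ - 1)) 1) hE1 hK2 (map_zero _)
    rw [chiP_eq, Groth.L03.Euler.euler_eq_sum (k := k) (N := 2)
      (fun q hq => subsingleton_above_dim hF hdF (by omega) (ρ - 1)), Finset.sum_range_succ, Finset.sum_range_one,
      Module.finrank_zero_of_subsingleton (M := Coh.HH (CohB1.ProjSpace n k) (tw' F (ρ - 1)) 1)]
    simp
  | succ d ih =>
    intro E F q _ hE hF hr hd
    haveI := isProper_over_proj (k := k) (n := n)
    haveI := noetherian_proj (k := k) (n := n)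
    have hdF := (topologicalKrullDim_set_mono (support_subset_of_epi q)).trans hd
    haveI := hE.1
    haveI := hF.1
    obtain ⟨ℓ, hℓ⟩ := exists_form_avoiding (n := n) (k := k)
      (((Groth.L22.EnrSev.finite_setOf_isAssPoint hE.2).union (Groth.L22.EnrSev.finite_setOf_isAssPoint hF.2)).union
        ((Groth.L22.Inter.finite_top (CohSupport.isClosed_support E hE.2) hd).union
          (Groth.L22.Inter.finite_top (CohSupport.isClosed_support F hF.2) hdF)))
    haveI hmE : Mono (mu (sigmaF ℓ) E) := mono_mu_sigmaF hE ℓ fun x hx => hℓ x (Or.inl (Or.inl hx))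
    haveI hmF : Mono (mu (sigmaF ℓ) F) := mono_mu_sigmaF hF ℓ fun x hx => hℓ x (Or.inl (Or.inr hx))
    let ιE : CohB1.tensorMod E (Twist.twistProjSpace n k (-1)) ⟶ E := mu (sigmaF ℓ) E
    let ιF : CohB1.tensorMod F (Twist.twistProjSpace n k (-1)) ⟶ F := mu (sigmaF ℓ) F
    haveI : Mono ιE := hmE
    haveI : Mono ιF := hmF
    let c : cokernel ιE ⟶ cokernel ιF :=
      cokernel.map (mu (sigmaF ℓ) E) (mu (sigmaF ℓ) F) ((tensorRightF (O' n k (-1))).map q) q
        (mu_natural (sigmaF ℓ) q).symm
    haveI : Epi c := epi_of_epi_fac (f := cokernel.π (mu (sigmaF ℓ) E)) (h := q ≫ cokernel.π (mu (sigmaF ℓ) F))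
      (cokernel.π_desc _ _ _)
    haveI := hE.1
    haveI := hF.1
    have hcE := (CohKernel.isCoh_kernel_cokernel (isCoh_tw hE (-1)) hE ιE).2
    have hcF := (CohKernel.isCoh_kernel_cokernel (isCoh_tw hF (-1)) hF ιF).2
    have h := ih (cokernel ιE) (cokernel ιF) c hcE hcF (regular_cokernel_hyp hr ιE)
      (dim_coker_le hE hd ℓ fun x hx hxd => hℓ x (Or.inr (Or.inl ⟨hx, hxd⟩)))
    rw [show (fun t => chiP (cokernel ιF) t) = D1 (fun t => chiP F t) from funext fun t => chiP_hyp hF ιF t] at h
    rwa [Function.iterate_succ_apply]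

/-- The differences of a polynomial of degree at most `d + 1`. -/
theorem diff_poly : ∀ (d : ℕ) (Q : Polynomial ℚ), Q.natDegree ≤ d + 1 → ∀ f : ℤ → ℤ,
    (∀ t : ℤ, (f t : ℚ) = Q.eval (t : ℚ)) → ∀ t : ℤ,
    (((D1^[d] f) t : ℤ) : ℚ) = ((d + 1).factorial : ℚ) * Q.coeff (d + 1) * ((t : ℚ) - (d : ℚ) / 2) +
      (d.factorial : ℚ) * Q.coeff d := by
  intro d
  induction d with
  | zero =>
    intro Q hQ f hf t
    have h := Polynomial.eq_X_add_C_of_natDegree_le_one hQ
    show (f t : ℚ) = _
    rw [hf, h]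
    simp
  | succ d ih =>
    intro Q hQ f hf t
    let R := Q.comp (Polynomial.X - Polynomial.C 1)
    let pj : ℕ → Polynomial ℚ := fun j => (Polynomial.X - Polynomial.C (1 : ℚ)) ^ j
    have hR : ∀ i, R.coeff i = ∑ j ∈ Finset.range (d + 3), Q.coeff j * ((-1) ^ (j - i) * (j.choose i : ℚ)) := by
      intro i
      have e : R = ∑ j ∈ Finset.range (d + 3), Polynomial.C (Q.coeff j) * pj j := by
        simp only [R, pj]
        rw [Polynomial.comp, Polynomial.eval₂_eq_sum_range' (n := d + 3) Polynomial.C (by omega)]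
      rw [e, Polynomial.finset_sum_coeff]
      refine Finset.sum_congr rfl fun j _ => ?_
      rw [Polynomial.coeff_C_mul]
      congr 1
      simp only [pj]
      rw [sub_eq_add_neg, ← Polynomial.C_neg, Polynomial.coeff_X_add_C_pow]
    have key : ∀ i, R.coeff i = (if i < d + 3 then Q.coeff i else 0) +
        (if i + 1 < d + 3 then -(i + 1 : ℚ) * Q.coeff (i + 1) else 0) +
        ∑ j ∈ (Finset.range (d + 3)).filter (fun j => i + 2 ≤ j), Q.coeff j * ((-1) ^ (j - i) * (j.choose i : ℚ)) := by
      intro i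
      rw [hR, ← Finset.sum_filter_add_sum_filter_not (Finset.range (d + 3)) (fun j => i + 2 ≤ j), add_comm]
      congr 1
      rw [← Finset.sum_filter_add_sum_filter_not _ (fun j => j = i)]
      congr 1
      · rw [Finset.filter_filter]
        by_cases h : i < d + 3
        · rw [if_pos h, Finset.sum_eq_single i]
          · simp
          · intro j hj hne; simp only [Finset.mem_filter] at hj; omega
          · intro h'; exact absurd (Finset.mem_filter.2 ⟨Finset.mem_range.2 h, by omega, rfl⟩) h'
        · rw [if_neg h, Finset.sum_eq_zero]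
          intro j hj; simp only [Finset.mem_filter, Finset.mem_range] at hj; omega
      · rw [Finset.filter_filter]
        have hlt : ∀ j ∈ (Finset.range (d + 3)).filter (fun j => ¬ (i + 2 ≤ j) ∧ ¬ j = i), j ≠ i + 1 →
            Q.coeff j * ((-1) ^ (j - i) * (j.choose i : ℚ)) = 0 := fun j hj hne => by
          simp only [Finset.mem_filter] at hj
          rw [Nat.choose_eq_zero_of_lt (by omega)]
          simp
        by_cases h : i + 1 < d + 3
        · rw [if_pos h, Finset.sum_eq_single (i + 1) hlt]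
          · rw [show i + 1 - i = 1 by omega, Nat.choose_succ_self_right]
            push_cast
            ring
          · intro h'; simp only [Finset.mem_filter, Finset.mem_range, not_and] at h'; exact absurd h (fun h2 => h' h2 (by omega) (by omega))
        · rw [if_neg h, Finset.sum_eq_zero]
          intro j hj
          refine hlt j hj fun e => ?_
          simp only [Finset.mem_filter, Finset.mem_range] at hj
          omega
    have hfil1 : (Finset.range (d + 3)).filter (fun j => d + 1 + 2 ≤ j) = ∅ :=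
      Finset.filter_false_of_mem fun j hj => by simp only [Finset.mem_range] at hj; omega
    have hfil2 : (Finset.range (d + 3)).filter (fun j => d + 2 + 2 ≤ j) = ∅ :=
      Finset.filter_false_of_mem fun j hj => by simp only [Finset.mem_range] at hj; omega
    have hfil0 : (Finset.range (d + 3)).filter (fun j => d + 2 ≤ j) = {d + 2} := by
      ext j; simp only [Finset.mem_filter, Finset.mem_range, Finset.mem_singleton]; omega
    have c2 : (Q - R).coeff (d + 2) = 0 := by
      rw [Polynomial.coeff_sub, key, hfil2, Finset.sum_empty, if_pos (by omega), if_neg (by omega)]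
      ring
    have c1 : (Q - R).coeff (d + 1) = (d + 2 : ℚ) * Q.coeff (d + 2) := by
      rw [Polynomial.coeff_sub, key, hfil1, Finset.sum_empty, if_pos (by omega), if_pos (by omega),
        show d + 1 + 1 = d + 2 by omega]
      push_cast
      ring
    have c0 : (Q - R).coeff d = (d + 1 : ℚ) * Q.coeff (d + 1) - ((d + 2).choose d : ℚ) * Q.coeff (d + 2) := by
      rw [Polynomial.coeff_sub, key, hfil0, Finset.sum_singleton, if_pos (by omega), if_pos (by omega),
        show d + 2 - d = 2 by omega]
      ring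
    have hdeg : (Q - R).natDegree ≤ d + 1 := by
      rw [Polynomial.natDegree_le_iff_coeff_eq_zero]
      intro N hN
      by_cases h : N = d + 2
      · rw [h]; exact c2
      · have hRd : R.natDegree ≤ d + 2 := by
          rw [Polynomial.natDegree_comp, Polynomial.natDegree_X_sub_C, mul_one]; exact hQ
        rw [Polynomial.coeff_sub, Polynomial.coeff_eq_zero_of_natDegree_lt (by omega),
          Polynomial.coeff_eq_zero_of_natDegree_lt (by omega), sub_zero]
    rw [Function.iterate_succ_apply, ih (Q - R) hdeg (D1 f) (fun s => by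
      show ((f s - f (s - 1) : ℤ) : ℚ) = _
      rw [Int.cast_sub, hf, hf, Polynomial.eval_sub, Polynomial.eval_comp]
      simp) t, c1, c0, Nat.choose_symm_of_eq_add (show d + 2 = d + 2 from rfl), Nat.cast_choose_two,
      show d + 1 + 1 = d + 2 from rfl, Nat.factorial_succ (d + 1), Nat.factorial_succ d]
    push_cast
    ring

theorem isHilbPoly_O1 {E : (CohB1.ProjSpace n k).Modules} {P : Polynomial ℚ}
    (hP : ∀ m : ℤ, (Curv2.euler k (CohB1.ProjSpace n k) (tw' E m) : ℚ) = P.eval (m : ℚ)) :
    ShStab.IsHilbPoly k (CohB1.ProjSpace n k) (O' n k 1) E P := fun m => by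
  have h : Nonempty (CohB1.tensorPow (O' n k 1) m ≅ O' n k (m : ℤ)) := by
    induction m with
    | zero => exact ⟨(nonempty_O_zero n k).some.symm⟩
    | succ m ih =>
      obtain ⟨e⟩ := ih
      obtain ⟨e'⟩ := nonempty_O_add (n := n) (R := k) (show (m : ℤ) + 1 = ((m + 1 : ℕ) : ℤ) by push_cast; ring)
      exact ⟨tensorIso e (Iso.refl _) ≪≫ e'⟩
  obtain ⟨e⟩ := h
  have h2 := hP m
  rw [Int.cast_natCast] at h2
  rw [← h2, Groth.L03.Euler.euler_iso (k := k) (show ShStab.twist (CohB1.ProjSpace n k) (O' n k 1) E m ≅ tw' E m from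
    tensorIso (Iso.refl E) e)]

/-- The hat slope bound. -/
theorem slope_bound [Infinite k] (ρ : ℤ) (P : Polynomial ℚ) (d : ℕ) (hP : P.natDegree = d + 1)
    {E F : (CohB1.ProjSpace n k).Modules} (hE : Coh.IsCoh E) (hF : Coh.IsCoh F) (q : E ⟶ F) [Epi q]
    (hr : Regular E ρ) (hEP : ∀ m : ℤ, (Curv2.euler k (CohB1.ProjSpace n k) (tw' E m) : ℚ) = P.eval (m : ℚ))
    (hdF : topologicalKrullDim (CohB1.support F) = ((d + 1 : ℕ) : WithBot ℕ∞)) (Q : Polynomial ℚ)
    (hQ : ∀ m : ℤ, (Curv2.euler k (CohB1.ProjSpace n k) (tw' F m) : ℚ) = Q.eval (m : ℚ)) :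
    -((ρ : ℚ) - 1 - (d : ℚ) / 2) ≤ ((d.factorial : ℚ) * Q.coeff d) / (((d + 1).factorial : ℚ) * Q.coeff (d + 1)) := by
  haveI := isProper_over_proj (k := k) (n := n)
  have hA : CohB1.IsAmple (O' n k 1) := by
    obtain ⟨ε⟩ : Nonempty (Groth.L18.PUP.O1 n k ≅ Twist.twistProjSpace n k 1) := ⟨Iso.refl _⟩
    exact Groth.L18.Ample.isAmple_of_iso ε (Groth.L22.VeryAmple.isAmple_O1 n k)
  have hsE := support_subset_of_epi q
  have hdE : topologicalKrullDim (CohB1.support E) = ((d + 1 : ℕ) : WithBot ℕ∞) := by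
    have hle : topologicalKrullDim (CohB1.support E) ≤ (n : WithBot ℕ∞) :=
      (topologicalKrullDim_subspace_le _ _).trans (Groth.L16.ProjSpace.topologicalKrullDim_eq_of_field n k).le
    obtain ⟨e, he⟩ : ∃ e : ℕ, topologicalKrullDim (CohB1.support E) = (e : WithBot ℕ∞) := by
      have hlo := hdF ▸ topologicalKrullDim_set_mono hsE
      generalize topologicalKrullDim (CohB1.support E) = D at hle hlo
      induction D using WithBot.recBotCoe with
      | bot => exact absurd hlo (by simp)
      | coe D =>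
        have hD : D ≤ (n : ℕ∞) := by exact_mod_cast hle
        obtain ⟨e, rfl⟩ := ENat.ne_top_iff_exists.1 (ne_top_of_le_ne_top (ENat.coe_ne_top n) hD)
        exact ⟨e, rfl⟩
    have := (Groth.L03.Euler.natDegree_eq_and_coeff_pos hA hE he (isHilbPoly_O1 hEP)).1
    rw [he]
    exact_mod_cast (show e = d + 1 by omega)
  obtain ⟨hQd, hQpos⟩ := Groth.L03.Euler.natDegree_eq_and_coeff_pos hA hF hdF (isHilbPoly_O1 hQ)
  have h := diff_bounds ρ d E F q hE hF hr hdE.le
  have h2 := diff_poly d Q hQd.le (fun t => chiP F t) (fun t => by rw [chiP_eq]; exact hQ t) (ρ - 1)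
  have hpos : (0 : ℚ) < ((d + 1).factorial : ℚ) * Q.coeff (d + 1) := mul_pos (by exact_mod_cast Nat.factorial_pos _) hQpos
  have h3 : (0 : ℚ) ≤ (((D1^[d] fun t => chiP F t) (ρ - 1) : ℤ) : ℚ) := by exact_mod_cast h
  rw [h2] at h3
  push_cast at h3
  rw [le_div_iff₀ hpos]
  linarith

end Groth.L11.Slope
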